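import Mathlib.LinearAlgebra.TensorProduct.RightExactness
import Mathlib.RingTheory.Flat.Basic

/-! Linear algebra core: tensoring a flat three-term complex. -/

set_option autoImplicit false
universe u

open scoped TensorProduct

namespace FlatCxLib

variable {A : Type u} [CommRing A] {X Y Z M' M M'' : Type u}
  [AddCommGroup X] [Module A X] [AddCommGroup Y] [Module A Y] [AddCommGroup Z] [Module A Z]
  [AddCommGroup M'] [Module A M'] [AddCommGroup M] [Module A M] [AddCommGroup M''] [Module A M'']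
  (f : X →ₗ[A] Y) (g : Y →ₗ[A] Z) {i : M' →ₗ[A] M} {q : M →ₗ[A] M''}

theorem rTensor_lTensor (n : M →ₗ[A] M'') (y : Y ⊗[A] M) :
    g.rTensor M'' (n.lTensor Y y) = n.lTensor Z (g.rTensor M y) := by
  rw [← LinearMap.comp_apply, ← LinearMap.comp_apply, LinearMap.rTensor_comp_lTensor,
    LinearMap.lTensor_comp_rTensor]

theorem mkQ_eq_zero_iff (x : Z ⊗[A] M) :
    (LinearMap.range g).mkQ.rTensor M x = 0 ↔ x ∈ LinearMap.range (g.rTensor M) :=
  rTensor_exact M (LinearMap.exact_map_mkQ_range g) (Submodule.mkQ_surjective _) x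

variable (hfg : g ∘ₗ f = 0)

include hfg in
theorem comp_rTensor_eq_zero (N : Type u) [AddCommGroup N] [Module A N] (b : X ⊗[A] N) :
    g.rTensor N (f.rTensor N b) = 0 := by
  rw [← LinearMap.comp_apply, ← LinearMap.rTensor_comp, hfg, LinearMap.rTensor_zero]
  rfl

variable (hi : Function.Injective i) (hiq : Function.Exact i q) (hq : Function.Surjective q)

include hfg hi hiq hq in
theorem surj_iff [Module.Flat A Z] :
    (∀ y : Y ⊗[A] M'', g.rTensor M'' y = 0 → ∃ x : Y ⊗[A] M, g.rTensor M x = 0 ∧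
        q.lTensor Y x - y ∈ LinearMap.range (f.rTensor M'')) ↔
      Function.Injective (i.lTensor (Z ⧸ LinearMap.range g)) := by
  constructor
  · intro h
    rw [injective_iff_map_eq_zero]
    intro w hw
    obtain ⟨u, rfl⟩ := LinearMap.rTensor_surjective M' (Submodule.mkQ_surjective (LinearMap.range g)) w
    rw [← rTensor_lTensor, mkQ_eq_zero_iff] at hw
    obtain ⟨x, hx⟩ := hw
    have h1 : g.rTensor M'' (q.lTensor Y x) = 0 := by
      rw [rTensor_lTensor, hx]
      exact (lTensor_exact Z hiq hq).apply_apply_eq_zero u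
    obtain ⟨x', hx', b'', hb⟩ := h _ h1
    obtain ⟨b, rfl⟩ := LinearMap.lTensor_surjective X hq b''
    rw [rTensor_lTensor] at hb
    have h2 : q.lTensor Y (x' - x - f.rTensor M b) = 0 := by
      rw [map_sub, map_sub, ← hb, sub_self]
    obtain ⟨v, hv⟩ := (lTensor_exact Y hiq hq _).1 h2
    rw [mkQ_eq_zero_iff]
    refine ⟨-v, ?_⟩
    apply Module.Flat.lTensor_preserves_injective_linearMap i hi (M := Z)
    rw [← rTensor_lTensor, map_neg, map_neg, hv, map_sub, map_sub, hx',
      comp_rTensor_eq_zero f g hfg, hx]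
    abel
  · intro h y hy
    obtain ⟨x, rfl⟩ := LinearMap.lTensor_surjective Y hq y
    rw [rTensor_lTensor] at hy
    obtain ⟨u, hu⟩ := (lTensor_exact Z hiq hq _).1 hy
    have hu0 : (LinearMap.range g).mkQ.rTensor M' u = 0 := by
      apply h
      rw [← rTensor_lTensor, hu, map_zero, mkQ_eq_zero_iff]
      exact ⟨x, rfl⟩
    obtain ⟨v, hv⟩ := (mkQ_eq_zero_iff g u).1 hu0
    refine ⟨x - i.lTensor Y v, ?_, 0, ?_⟩
    · rw [map_sub, rTensor_lTensor, hv, hu, sub_self]
    · rw [map_zero, map_sub, (lTensor_exact Y hiq hq).apply_apply_eq_zero v, sub_zero, sub_self]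

include hfg hi in
theorem inj_iff [Module.Flat A Z] :
    (∀ x : Y ⊗[A] M', g.rTensor M' x = 0 → i.lTensor Y x ∈ LinearMap.range (f.rTensor M) →
        x ∈ LinearMap.range (f.rTensor M')) ↔
      Function.Injective (i.lTensor (Y ⧸ LinearMap.range f)) := by
  constructor
  · intro h
    rw [injective_iff_map_eq_zero]
    intro w hw
    obtain ⟨x, rfl⟩ := LinearMap.rTensor_surjective M' (Submodule.mkQ_surjective (LinearMap.range f)) w
    rw [← rTensor_lTensor, mkQ_eq_zero_iff] at hw
    rw [mkQ_eq_zero_iff]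
    refine h x ?_ hw
    apply Module.Flat.lTensor_preserves_injective_linearMap i hi (M := Z)
    obtain ⟨b, hb⟩ := hw
    rw [← rTensor_lTensor, map_zero, ← hb, comp_rTensor_eq_zero f g hfg]
  · intro h x _ hx
    rw [← mkQ_eq_zero_iff]
    apply h
    rw [← rTensor_lTensor, (mkQ_eq_zero_iff f _).2 hx, map_zero]

end FlatCxLib
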