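import Groth.Prelude.Def_ega3

/-! Extension of scalars of modules as a tensor product. -/

set_option autoImplicit false
universe u

open CategoryTheory
open scoped TensorProduct

namespace FlatCxLib

variable {A B : Type u} [CommRing A] [CommRing B] [Algebra A B]

set_option backward.isDefEq.respectTransparency false in
noncomputable def rsEquiv : (ModuleCat.restrictScalars (algebraMap A B)).obj (ModuleCat.of B B) ≃ₗ[A] B where
  toFun x := x
  invFun x := x
  map_add' _ _ := rfl
  map_smul' r x := by
    exact (Algebra.smul_def (A := B) r x).symm
  left_inv _ := rfl
  right_inv _ := rfl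

set_option backward.isDefEq.respectTransparency false in
noncomputable def extEquiv (M : ModuleCat.{u} A) : (ModuleCat.extendScalars (algebraMap A B)).obj M ≃ₗ[B] B ⊗[A] M where
  toAddEquiv := (TensorProduct.congr rsEquiv (LinearEquiv.refl A M)).toAddEquiv
  map_smul' b x := by
    change (TensorProduct.congr rsEquiv (LinearEquiv.refl A M)).toLinearMap (b • x) =
      b • (TensorProduct.congr rsEquiv (LinearEquiv.refl A M)).toLinearMap x
    induction x using TensorProduct.induction_on with
    | zero => erw [smul_zero, map_zero, smul_zero]
    | tmul y m => rfl
    | add x y hx hy => erw [smul_add, map_add, hx, hy, map_add, smul_add]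

set_option backward.isDefEq.respectTransparency false in
theorem extEquiv_map {M N : ModuleCat.{u} A} (g : M ⟶ N) (x) :
    extEquiv (B := B) N ((ModuleCat.extendScalars (algebraMap A B)).map g x) = g.hom.baseChange B (extEquiv M x) := by
  induction x using TensorProduct.induction_on with
  | zero =>
    erw [map_zero]
    all_goals exact (map_zero _).symm
  | tmul y m => rfl
  | add x y hx hy => erw [map_add, map_add, hx, hy, map_add, map_add]

end FlatCxLib
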