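import Groth.Agent.FlatCxLib.TFun
import Groth.Agent.FlatCxLib.Extend
import Mathlib.LinearAlgebra.TensorProduct.RightExactness
import Mathlib.RingTheory.Spectrum.Prime.FreeLocus
import Mathlib.RingTheory.Support
import Mathlib.Topology.Semicontinuity.Basic
import Mathlib.LinearAlgebra.FiniteDimensional.Lemmas

/-! Ranks of the homology of a base-changed complex at the points of the spectrum. -/

set_option autoImplicit false
universe u

open CategoryTheory
open scoped TensorProduct

namespace FlatCxLib

variable {A : Type u} [CommRing A]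

section Field
variable {K : Type u} [Field K] [Algebra A K] {X Y Z : Type u}
  [AddCommGroup X] [Module A X] [AddCommGroup Y] [Module A Y] [AddCommGroup Z] [Module A Z]

theorem finrank_coker_baseChange (f : X →ₗ[A] Y) :
    Module.finrank K (K ⊗[A] (Y ⧸ LinearMap.range f)) =
      Module.finrank K ((K ⊗[A] Y) ⧸ LinearMap.range (f.baseChange K)) := by
  have hsurj : Function.Surjective ((LinearMap.range f).mkQ.baseChange K) :=
    LinearMap.lTensor_surjective K (Submodule.mkQ_surjective (LinearMap.range f))
  have hker : LinearMap.ker ((LinearMap.range f).mkQ.baseChange K) = LinearMap.range (f.baseChange K) := by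
    ext x
    exact lTensor_exact K (LinearMap.exact_map_mkQ_range f) (Submodule.mkQ_surjective _) x
  exact ((Submodule.quotEquivOfEq _ _ hker.symm).trans
    (((LinearMap.range f).mkQ.baseChange K).quotKerEquivOfSurjective hsurj)).finrank_eq.symm

theorem finrank_homology_add {U V V' : Type u} [AddCommGroup U] [Module K U] [AddCommGroup V]
    [Module K V] [AddCommGroup V'] [Module K V'] [Module.Finite K V] [Module.Finite K V']
    (a : U →ₗ[K] V) (b : V →ₗ[K] V') (hle : LinearMap.range a ≤ LinearMap.ker b) :
    Module.finrank K (LinearMap.ker b ⧸ (LinearMap.range a).comap (LinearMap.ker b).subtype) +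
      Module.finrank K V' =
    Module.finrank K (V ⧸ LinearMap.range a) + Module.finrank K (V' ⧸ LinearMap.range b) := by
  have h1 := Submodule.finrank_quotient_add_finrank
    ((LinearMap.range a).comap (LinearMap.ker b).subtype)
  rw [(Submodule.comapSubtypeEquivOfLe hle).finrank_eq] at h1
  have h2 := LinearMap.finrank_range_add_finrank_ker b
  have h3 := Submodule.finrank_quotient_add_finrank (LinearMap.range a)
  have h4 := Submodule.finrank_quotient_add_finrank (LinearMap.range b)
  omega

end Field

/-- The dimension of the fibre of `M` at `x`. -/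
noncomputable def fibreRank (M : Type u) [AddCommGroup M] [Module A M] (x : PrimeSpectrum A) : ℕ :=
  Module.finrank x.asIdeal.ResidueField (x.asIdeal.ResidueField ⊗[A] M)

theorem fibreRank_eq_rankAtStalk (M : Type u) [AddCommGroup M] [Module A M] [Module.Finite A M]
    [Module.Flat A M] (x : PrimeSpectrum A) : fibreRank M x = Module.rankAtStalk M x := by
  haveI : Module.Free (Localization.AtPrime x.asIdeal) (Localization.AtPrime x.asIdeal ⊗[A] M) :=
    Module.free_of_flat_of_isLocalRing
  rw [Module.rankAtStalk_eq_finrank_tensorProduct, fibreRank,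
    ← (TensorProduct.AlgebraTensorModule.cancelBaseChange A (Localization.AtPrime x.asIdeal)
      x.asIdeal.ResidueField x.asIdeal.ResidueField M).finrank_eq, Module.finrank_baseChange]

theorem eventually_fibreRank_le (M : Type u) [AddCommGroup M] [Module A M] [Module.Finite A M]
    (x : PrimeSpectrum A) : ∀ᶠ y in nhds x, fibreRank M y ≤ fibreRank M x := by
  classical
  let K := x.asIdeal.ResidueField
  obtain ⟨b, hb0, hb1, hb2⟩ := exists_linearIndependent K
    (Set.range fun m : M => (1 : K) ⊗ₜ[A] m)
  have hspan : Submodule.span K b = ⊤ := by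
    rw [hb1, eq_top_iff]
    intro z _
    induction z using TensorProduct.induction_on with
    | zero => exact zero_mem _
    | tmul k m =>
      rw [show k ⊗ₜ[A] m = k • ((1 : K) ⊗ₜ[A] m) by rw [TensorProduct.smul_tmul', smul_eq_mul, mul_one]]
      exact Submodule.smul_mem _ _ (Submodule.subset_span ⟨m, rfl⟩)
    | add z w hz hw => exact add_mem (hz Submodule.mem_top) (hw Submodule.mem_top)
  let bas : Module.Basis b K (K ⊗[A] M) := Module.Basis.mk hb2 (by rw [Subtype.range_coe, hspan])
  haveI : Finite b := Module.Finite.finite_basis bas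
  haveI := Fintype.ofFinite b
  have hmem : ∀ i : b, ∃ m : M, (1 : K) ⊗ₜ[A] m = (i : K ⊗[A] M) := fun i => by
    have hsub : b ⊆ Set.range fun m : M => (1 : K) ⊗ₜ[A] m := hb0
    exact hsub i.2
  choose m hm using hmem
  let F : (b → A) →ₗ[A] M := Fintype.linearCombination A m
  have hC : x ∉ Module.support A (M ⧸ LinearMap.range F) := by
    rw [Module.mem_support_iff_nontrivial_residueField_tensorProduct, not_nontrivial_iff_subsingleton]
    have hsurj : Function.Surjective ((LinearMap.range F).mkQ.baseChange K) :=
      LinearMap.lTensor_surjective K (Submodule.mkQ_surjective _)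
    have hzero : (LinearMap.range F).mkQ.baseChange K = 0 := by
      refine bas.ext fun i => ?_
      rw [Module.Basis.mk_apply, ← hm i, LinearMap.baseChange_tmul, LinearMap.zero_apply]
      have : (LinearMap.range F).mkQ (m i) = 0 := by
        refine (Submodule.Quotient.mk_eq_zero _).2 ⟨Pi.single i 1, ?_⟩
        simp [F, Fintype.linearCombination_apply_single]
      rw [this, TensorProduct.tmul_zero]
    refine ⟨fun z w => ?_⟩
    obtain ⟨z, rfl⟩ := hsurj z
    obtain ⟨w, rfl⟩ := hsurj w
    rw [hzero]; rfl
  have hopen : IsOpen (Module.support A (M ⧸ LinearMap.range F))ᶜ :=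
    (Module.isClosed_support).isOpen_compl
  filter_upwards [hopen.mem_nhds hC] with y hy
  let L := y.asIdeal.ResidueField
  have : Nontrivial A := ⟨0, 1, fun h => y.2.ne_top ((Ideal.eq_top_iff_one _).2 (h ▸ zero_mem _))⟩
  have hFy : Function.Surjective (F.baseChange L) := by
    intro z
    refine (lTensor_exact L (LinearMap.exact_map_mkQ_range F) (Submodule.mkQ_surjective _) z).1 ?_
    rw [Set.mem_compl_iff, Module.mem_support_iff_nontrivial_residueField_tensorProduct,
      not_nontrivial_iff_subsingleton] at hy
    exact Subsingleton.elim _ _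
  calc fibreRank M y ≤ Module.finrank L (L ⊗[A] (b → A)) := by
        rw [fibreRank, ← finrank_top L (L ⊗[A] M), ← LinearMap.range_eq_top.2 hFy]
        exact LinearMap.finrank_range_le _
    _ = fibreRank M x := by
        rw [Module.finrank_baseChange, Module.finrank_fintype_fun_eq_card, fibreRank,
          Module.finrank_eq_card_basis bas]

variable (P : ChainComplex (ModuleCat.{u} A) ℤ)

theorem dRank_add (hP : ∀ i, Module.Finite A (P.X i)) (p q : ℤ) (hqp : q + 1 = p) (x : PrimeSpectrum A) :
    CohIII.dRank P p x + fibreRank (P.X q) x = fibreRank (W P p) x + fibreRank (W P q) x := by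
  subst hqp
  let K := x.asIdeal.ResidueField
  let Q := CohIII.bcCx (algebraMap A K) P
  have := hP (q + 1)
  have := hP q
  let e : ∀ i, Q.X i ≃ₗ[K] K ⊗[A] P.X i := fun i => extEquiv (B := K) (P.X i)
  have hd : ∀ i j z, e j ((Q.d i j).hom z) = (P.d i j).hom.baseChange K (e i z) := fun i j z =>
    extEquiv_map (P.d i j) z
  have hr : ∀ i j, (LinearMap.range (Q.d i j).hom).map (e j).toLinearMap =
      LinearMap.range ((P.d i j).hom.baseChange K) := fun i j => by
    ext y
    constructor
    · rintro ⟨_, ⟨z, rfl⟩, rfl⟩
      exact ⟨e i z, (hd i j z).symm⟩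
    · rintro ⟨z, rfl⟩
      exact ⟨_, ⟨(e i).symm z, rfl⟩, (hd i j _).trans (congrArg _ ((e i).apply_symm_apply z))⟩
  haveI : Module.Finite K (Q.X (q + 1)) := Module.Finite.equiv (e (q + 1)).symm
  haveI : Module.Finite K (Q.X q) := Module.Finite.equiv (e q).symm
  have h := finrank_homology_add (K := K) (Q.d (q + 1 + 1) (q + 1)).hom (Q.d (q + 1) q).hom
    (LinearMap.range_le_ker_iff.2 (d_comp_d_hom Q _ _ _))
  rw [(homologyEquiv Q (q + 1) q (by simp) (q + 1 + 1) (by simp)).finrank_eq, (e q).finrank_eq,
    (Submodule.Quotient.equiv _ _ (e (q + 1)) (hr (q + 1 + 1) (q + 1))).finrank_eq,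
    (Submodule.Quotient.equiv _ _ (e q) (hr (q + 1) q)).finrank_eq,
    ← finrank_coker_baseChange, ← finrank_coker_baseChange] at h
  exact h

theorem upperSemicontinuous_dRank [IsNoetherianRing A]
    (hP : ∀ i, Module.Finite A (P.X i) ∧ Module.Flat A (P.X i)) (p : ℤ) :
    UpperSemicontinuous (CohIII.dRank P p) := by
  intro x n hn
  have := (hP (p - 1)).1
  have := (hP (p - 1)).2
  have := Module.finitePresentation_of_finite A (P.X (p - 1))
  have := finite_W P (hP (p - 1)).1
  have := finite_W P (hP p).1
  have hloc : ∀ᶠ y in nhds x, fibreRank (P.X (p - 1)) y = fibreRank (P.X (p - 1)) x := by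
    simp only [fibreRank_eq_rankAtStalk]
    exact (IsLocallyConstant.iff_eventually_eq _).1 Module.isLocallyConstant_rankAtStalk x
  filter_upwards [hloc, eventually_fibreRank_le (W P p) x, eventually_fibreRank_le (W P (p - 1)) x]
    with y h1 h2 h3
  have e1 := dRank_add P (fun i => (hP i).1) p (p - 1) (by omega) x
  have e2 := dRank_add P (fun i => (hP i).1) p (p - 1) (by omega) y
  omega

end FlatCxLib
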