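import Mathlib.Algebra.Homology.ShortComplex.ModuleCat
import Mathlib.Algebra.Homology.ShortComplex.HomologicalComplex
import Mathlib.Algebra.Category.ModuleCat.Abelian

/-! Elementwise description of the homology of a complex of modules. -/

set_option autoImplicit false
universe u v w

open CategoryTheory CategoryTheory.Limits

namespace FlatCxLib

variable {R : Type u} [Ring R] {ι : Type w} {c : ComplexShape ι}
variable (K : HomologicalComplex (ModuleCat.{v} R) c) (i k : ι) (hk : c.next i = k)

/-- The cycle given by an element killed by the differential. -/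
noncomputable def cyc : LinearMap.ker (K.d i k).hom →ₗ[R] K.cycles i :=
  (K.liftCycles (ModuleCat.ofHom (LinearMap.ker (K.d i k).hom).subtype) k hk
    (ModuleCat.hom_ext (LinearMap.ext fun x => x.2))).hom

theorem iCycles_cyc (x : LinearMap.ker (K.d i k).hom) : K.iCycles i (cyc K i k hk x) = x.1 :=
  ConcreteCategory.congr_hom (K.liftCycles_i
    (ModuleCat.ofHom (LinearMap.ker (K.d i k).hom).subtype) k hk
    (ModuleCat.hom_ext (LinearMap.ext fun x => x.2))) x

/-- The class in homology of a cycle. -/
noncomputable def hcls : LinearMap.ker (K.d i k).hom →ₗ[R] K.homology i :=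
  (K.homologyπ i).hom ∘ₗ cyc K i k hk

theorem iCycles_injective : Function.Injective (K.iCycles i) :=
  (ModuleCat.mono_iff_injective _).1 inferInstance

theorem iCycles_mem_ker (z : K.cycles i) : K.iCycles i z ∈ LinearMap.ker (K.d i k).hom :=
  ConcreteCategory.congr_hom (K.iCycles_d i k) z

theorem hcls_iCycles (z : K.cycles i) :
    hcls K i k hk ⟨K.iCycles i z, iCycles_mem_ker K i k z⟩ = K.homologyπ i z := by
  apply congrArg (K.homologyπ i).hom
  apply iCycles_injective K i
  exact iCycles_cyc K i k hk _

theorem hcls_surjective : Function.Surjective (hcls K i k hk) := fun h => by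
  obtain ⟨z, rfl⟩ := (ModuleCat.epi_iff_surjective (K.homologyπ i)).1 inferInstance h
  exact ⟨_, hcls_iCycles K i k hk z⟩

theorem hcls_eq_zero_iff (j : ι) (hj : c.prev i = j) (x : LinearMap.ker (K.d i k).hom) :
    hcls K i k hk x = 0 ↔ x.1 ∈ LinearMap.range (K.d j i).hom := by
  have hex := ((ShortComplex.mk (K.toCycles j i) (K.homologyπ i)
    (K.toCycles_comp_homologyπ j i))).exact_of_g_is_cokernel (K.homologyIsCokernel j i hj)
  let z := cyc K i k hk x
  have hz : K.iCycles i z = x.1 := iCycles_cyc K i k hk x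
  constructor
  · intro h
    obtain ⟨y, hy⟩ := (ShortComplex.moduleCat_exact_iff _).1 hex z h
    exact ⟨y, (ConcreteCategory.congr_hom (K.toCycles_i j i) y).symm.trans
      ((congrArg (K.iCycles i).hom hy).trans hz)⟩
  · rintro ⟨y, hy⟩
    have e : K.toCycles j i y = z := by
      apply iCycles_injective K i
      exact (ConcreteCategory.congr_hom (K.toCycles_i j i) y).trans (hy.trans hz.symm)
    show K.homologyπ i z = 0
    rw [← e]
    exact ConcreteCategory.congr_hom (K.toCycles_comp_homologyπ j i) y

variable {K} {L : HomologicalComplex (ModuleCat.{v} R) c} (φ : K ⟶ L)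

theorem map_mem_ker (x : LinearMap.ker (K.d i k).hom) :
    (φ.f i).hom x.1 ∈ LinearMap.ker (L.d i k).hom := by
  have := ConcreteCategory.congr_hom (φ.comm i k) x.1
  rw [LinearMap.mem_ker]
  refine this.trans ?_
  show (φ.f k).hom ((K.d i k).hom x.1) = 0
  rw [LinearMap.mem_ker.1 x.2, map_zero]

theorem homologyMap_hcls (x : LinearMap.ker (K.d i k).hom) :
    HomologicalComplex.homologyMap φ i (hcls K i k hk x) =
      hcls L i k hk ⟨(φ.f i).hom x.1, map_mem_ker i k φ x⟩ := by
  let z := cyc K i k hk x
  refine (ConcreteCategory.congr_hom (HomologicalComplex.homologyπ_naturality φ i) z).trans ?_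
  apply congrArg (L.homologyπ i).hom
  apply iCycles_injective L i
  refine (ConcreteCategory.congr_hom (HomologicalComplex.cyclesMap_i φ i) z).trans ?_
  exact (congrArg (φ.f i).hom (iCycles_cyc K i k hk x)).trans
    (iCycles_cyc L i k hk ⟨_, map_mem_ker i k φ x⟩).symm

variable (j : ι) (hj : c.prev i = j)

include hk hj in
theorem surjective_homologyMap_iff :
    Function.Surjective (HomologicalComplex.homologyMap φ i).hom ↔
      ∀ y : L.X i, (L.d i k).hom y = 0 → ∃ x : K.X i, (K.d i k).hom x = 0 ∧
        (φ.f i).hom x - y ∈ LinearMap.range (L.d j i).hom := by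
  constructor
  · intro h y hy
    obtain ⟨a, ha⟩ := h (hcls L i k hk ⟨y, hy⟩)
    obtain ⟨x, rfl⟩ := hcls_surjective K i k hk a
    refine ⟨x.1, x.2, ?_⟩
    have e : hcls L i k hk (⟨(φ.f i).hom x.1, map_mem_ker i k φ x⟩ - ⟨y, hy⟩) = 0 := by
      rw [map_sub, sub_eq_zero]; exact (homologyMap_hcls i k hk φ x).symm.trans ha
    exact (hcls_eq_zero_iff L i k hk j hj _).1 e
  · intro h b
    obtain ⟨⟨y, hy⟩, rfl⟩ := hcls_surjective L i k hk b
    obtain ⟨x, hx, hxy⟩ := h y hy
    refine ⟨hcls K i k hk ⟨x, hx⟩, (homologyMap_hcls i k hk φ _).trans ?_⟩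
    rw [← sub_eq_zero, ← map_sub]
    exact (hcls_eq_zero_iff L i k hk j hj _).2 hxy

include hk hj in
theorem injective_homologyMap_iff :
    Function.Injective (HomologicalComplex.homologyMap φ i).hom ↔
      ∀ x : K.X i, (K.d i k).hom x = 0 → (φ.f i).hom x ∈ LinearMap.range (L.d j i).hom →
        x ∈ LinearMap.range (K.d j i).hom := by
  rw [injective_iff_map_eq_zero]
  constructor
  · intro h x hx hmem
    refine (hcls_eq_zero_iff K i k hk j hj ⟨x, hx⟩).1 (h _ ?_)
    exact (homologyMap_hcls i k hk φ _).trans ((hcls_eq_zero_iff L i k hk j hj _).2 hmem)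
  · intro h a ha
    obtain ⟨x, rfl⟩ := hcls_surjective K i k hk a
    refine (hcls_eq_zero_iff K i k hk j hj x).2 (h x.1 x.2 ?_)
    exact (hcls_eq_zero_iff L i k hk j hj _).1 ((homologyMap_hcls i k hk φ x).symm.trans ha)

variable (K) in
include hk hj in
/-- Homology as cycles modulo boundaries. -/
noncomputable def homologyEquiv :
    (LinearMap.ker (K.d i k).hom ⧸
      (LinearMap.range (K.d j i).hom).comap (LinearMap.ker (K.d i k).hom).subtype) ≃ₗ[R] K.homology i :=
  (Submodule.quotEquivOfEq _ (LinearMap.ker (hcls K i k hk)) (by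
      ext x; exact (hcls_eq_zero_iff K i k hk j hj x).symm)).trans
    ((hcls K i k hk).quotKerEquivOfSurjective (hcls_surjective K i k hk))

end FlatCxLib
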