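import Groth.Prelude.Def_ega3
import Groth.Agent.FlatCxLib.Homology
import Groth.Agent.FlatCxLib.Core
import Mathlib.CategoryTheory.Functor.EpiMono
import Mathlib.RingTheory.LocalRing.Module
import Mathlib.RingTheory.Noetherian.Basic

/-!
The functors `T_p(M) = H_p(P ⊗ M)` of a chain complex of flat modules, and the modules
`coker (P_{p+1} → P_p)`.
-/

set_option autoImplicit false
universe u

open CategoryTheory MonoidalCategory
open scoped TensorProduct

namespace FlatCxLib

variable {A : Type u} [CommRing A] (P : ChainComplex (ModuleCat.{u} A) ℤ)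

/-- The cokernel of the differential `P_{p+1} → P_p`. -/
abbrev W (p : ℤ) : Type u := P.X p ⧸ LinearMap.range (P.d (p + 1) p).hom

theorem d_comp_d_hom (i j k : ℤ) : (P.d j k).hom ∘ₗ (P.d i j).hom = 0 := by
  rw [← ModuleCat.hom_comp, P.d_comp_d]
  rfl

section
variable (p q : ℤ) (hqp : q + 1 = p) (hP : ∀ i, Module.Flat A (P.X i))
variable {M' M M'' : ModuleCat.{u} A} (i : M' ⟶ M) (π : M ⟶ M'')

include hqp hP in
theorem surjective_map_iff (hi : Function.Injective i.hom) (hex : Function.Exact i.hom π.hom)
    (hπ : Function.Surjective π.hom) :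
    Function.Surjective ((CohIII.TFun P p).map π).hom ↔ Function.Injective (i.hom.lTensor (W P q)) := by
  subst hqp
  have := hP q
  refine (surjective_homologyMap_iff (φ := CohIII.tensorMap P π) (q + 1) q (by simp) (q + 1 + 1) (by simp)).trans ?_
  exact surj_iff (P.d (q + 1 + 1) (q + 1)).hom (P.d (q + 1) q).hom (d_comp_d_hom P _ _ _) hi hex hπ

include hP in
theorem injective_map_iff (hi : Function.Injective i.hom) :
    Function.Injective ((CohIII.TFun P p).map i).hom ↔ Function.Injective (i.hom.lTensor (W P p)) := by
  have := hP (p - 1)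
  refine (injective_homologyMap_iff (φ := CohIII.tensorMap P i) p (p - 1) (by simp) (p + 1) (by simp)).trans ?_
  exact inj_iff (P.d (p + 1) p).hom (P.d p (p - 1)).hom (d_comp_d_hom P _ _ _) hi

include hP in
theorem preservesMono_iff_flat :
    (CohIII.TFun P p).PreservesMonomorphisms ↔ Module.Flat A (W P p) := by
  constructor
  · intro h
    rw [Module.Flat.iff_lTensor_preserves_injective_linearMap]
    intro N N' _ _ _ _ f hf
    have : Mono (ModuleCat.ofHom f) := (ModuleCat.mono_iff_injective _).2 hf
    exact (injective_map_iff P p hP (ModuleCat.ofHom f) hf).1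
      ((ModuleCat.mono_iff_injective _).1 (h.preserves (ModuleCat.ofHom f)))
  · intro h
    refine ⟨fun f hf => (ModuleCat.mono_iff_injective _).2 ?_⟩
    have hf' := (ModuleCat.mono_iff_injective f).1 hf
    exact (injective_map_iff P p hP f hf').2
      (Module.Flat.lTensor_preserves_injective_linearMap f.hom hf')

include hqp hP in
theorem preservesEpi_iff_flat :
    (CohIII.TFun P p).PreservesEpimorphisms ↔ Module.Flat A (W P q) := by
  constructor
  · intro h
    rw [Module.Flat.iff_lTensor_preserves_injective_linearMap]
    intro N N' _ _ _ _ f hf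
    have : Epi (ModuleCat.ofHom (LinearMap.range f).mkQ) :=
      (ModuleCat.epi_iff_surjective _).2 (Submodule.mkQ_surjective _)
    exact (surjective_map_iff P p q hqp hP (ModuleCat.ofHom f) (ModuleCat.ofHom (LinearMap.range f).mkQ)
      hf (LinearMap.exact_map_mkQ_range f) (Submodule.mkQ_surjective _)).1
      ((ModuleCat.epi_iff_surjective _).1 (h.preserves _))
  · intro h
    refine ⟨fun f hf => (ModuleCat.epi_iff_surjective _).2 ?_⟩
    exact (surjective_map_iff P p q hqp hP (ModuleCat.ofHom (LinearMap.ker f.hom).subtype) f
      Subtype.val_injective (LinearMap.exact_subtype_ker_map f.hom)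
      ((ModuleCat.epi_iff_surjective f).1 hf)).2
      (Module.Flat.lTensor_preserves_injective_linearMap _ Subtype.val_injective)

end

theorem finite_W {p : ℤ} (h : Module.Finite A (P.X p)) : Module.Finite A (W P p) :=
  Module.Finite.quotient A _

/-- Surjectivity of `T_p(A) → T_p(k)` is flatness of `coker (P_p → P_{p-1})` over a local ring. -/
theorem surjective_residue_iff_flat [IsNoetherianRing A] [IsLocalRing A]
    (hP : ∀ i, Module.Finite A (P.X i) ∧ Module.Flat A (P.X i)) (p q : ℤ) (hqp : q + 1 = p) :
    Function.Surjective ((CohIII.TFun P p).map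
        (ModuleCat.ofHom (Algebra.linearMap A (IsLocalRing.ResidueField A)))).hom ↔
      Module.Flat A (W P q) := by
  have hex : Function.Exact (IsLocalRing.maximalIdeal A).subtype
      (Algebra.linearMap A (IsLocalRing.ResidueField A)) := fun a =>
    ⟨fun h => ⟨⟨a, (IsLocalRing.residue_eq_zero_iff a).1 h⟩, rfl⟩,
      fun ⟨b, hb⟩ => hb ▸ (IsLocalRing.residue_eq_zero_iff _).2 b.2⟩
  refine (surjective_map_iff P p q hqp (fun i => (hP i).2)
    (M' := ModuleCat.of A (IsLocalRing.maximalIdeal A)) (M := ModuleCat.of A A)
    (ModuleCat.ofHom (IsLocalRing.maximalIdeal A).subtype)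
    (ModuleCat.ofHom (Algebra.linearMap A (IsLocalRing.ResidueField A)))
    Subtype.val_injective hex IsLocalRing.residue_surjective).trans ?_
  constructor
  · intro h
    have := finite_W P (hP q).1
    have : Module.FinitePresentation A (W P q) := Module.finitePresentation_of_finite A _
    have := Module.free_of_maximalIdeal_rTensor_injective (R := A) (M := W P q)
      ((LinearMap.lTensor_inj_iff_rTensor_inj _ _).1 h)
    infer_instance
  · intro h
    exact Module.Flat.lTensor_preserves_injective_linearMap _ Subtype.val_injective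

end FlatCxLib
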