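import Groth.Agent.FlatCxLib.Quot
import Groth.Agent.FlatCxLib.TFun
import Groth.Agent.FlatCxLib.Extend
import Mathlib.RingTheory.Flat.Stability

/-! Base change of complexes of flat modules. -/

set_option autoImplicit false
universe u

open CategoryTheory
open scoped TensorProduct

namespace FlatCxLib

variable {A B : Type u} [CommRing A] [CommRing B] [Algebra A B]
  (P : ChainComplex (ModuleCat.{u} A) ℤ)

theorem extEquiv_d (i j : ℤ) (z : (CohIII.bcCx (algebraMap A B) P).X i) :
    extEquiv (B := B) (P.X j) (((CohIII.bcCx (algebraMap A B) P).d i j).hom z) =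
      (P.d i j).hom.baseChange B (extEquiv (B := B) (P.X i) z) :=
  extEquiv_map (P.d i j) z

theorem flat_bcCx (hP : ∀ i, Module.Flat A (P.X i)) (i : ℤ) :
    Module.Flat B ((CohIII.bcCx (algebraMap A B) P).X i) :=
  have := hP i
  Module.Flat.of_linearEquiv (extEquiv (B := B) (P.X i))

/-- `coker d` commutes with base change. -/
noncomputable def WbcEquiv (p : ℤ) :
    W (CohIII.bcCx (algebraMap A B) P) p ≃ₗ[B] B ⊗[A] W P p :=
  (Submodule.Quotient.equiv _ _ (extEquiv (B := B) (P.X p))
      (map_range_equiv _ ((P.d (p + 1) p).hom.baseChange B) (extEquiv (B := B) (P.X (p + 1))) _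
        (extEquiv_d P (p + 1) p))).trans
    (cokerBaseChange B (P.d (p + 1) p).hom)

/-- Homology of the base change, in terms of linear maps. -/
noncomputable def homologyBcEquiv (p q : ℤ) (hqp : q + 1 = p) :
    (CohIII.bcCx (algebraMap A B) P).homology p ≃ₗ[B]
      Hm ((P.d (p + 1) p).hom.baseChange B) ((P.d p q).hom.baseChange B) :=
  (homologyEquiv (CohIII.bcCx (algebraMap A B) P) p q (by simp; omega) (p + 1) (by simp)).symm.trans
    (hmCongr (extEquiv (B := B) (P.X (p + 1))) (extEquiv (B := B) (P.X p)) (extEquiv (B := B) (P.X q))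
      (extEquiv_d P (p + 1) p) (extEquiv_d P p q))

end FlatCxLib
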