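import Mathlib
import Groth.Agent.FlatCxLib.Rank
import Groth.Agent.FlatCxLib.BaseChange

/-! Loci of exactness of the functors `T_p` and locally constant fibre ranks. -/

set_option autoImplicit false
universe u

open CategoryTheory
open scoped TensorProduct

namespace FlatCxLib

variable {A : Type u} [CommRing A]

/-- The dimension of `M ⊗ K` only depends on the point under the field `K`. -/
theorem finrank_tensor_field (M : Type u) [AddCommGroup M] [Module A M] (K : Type u) [Field K] [Algebra A K]
    (x : PrimeSpectrum A) (hx : RingHom.ker (algebraMap A K) = x.asIdeal) :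
    Module.finrank K (K ⊗[A] M) = fibreRank M x := by
  let L := x.asIdeal.ResidueField
  let φ : (A ⧸ x.asIdeal) →+* K := Ideal.Quotient.lift x.asIdeal (algebraMap A K) fun a ha => by
    rwa [← RingHom.mem_ker, hx]
  have hφ : Function.Injective φ := RingHom.lift_injective_of_ker_le_ideal _ _ hx.le
  let ψ : L →+* K := IsFractionRing.lift (K := L) hφ
  letI : Algebra L K := ψ.toAlgebra
  haveI : IsScalarTower A L K := IsScalarTower.of_algebraMap_eq fun a => by
    show algebraMap A K a = ψ (algebraMap A L a)
    rw [IsScalarTower.algebraMap_apply A (A ⧸ x.asIdeal) L, IsFractionRing.lift_algebraMap]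
    rfl
  rw [← (TensorProduct.AlgebraTensorModule.cancelBaseChange A L K K M).finrank_eq, Module.finrank_baseChange]
  rfl

theorem fibreRank_baseChange (B : Type u) [CommRing B] [Algebra A B] (M : Type u) [AddCommGroup M] [Module A M]
    (y : PrimeSpectrum B) :
    fibreRank (B ⊗[A] M) y = fibreRank M (PrimeSpectrum.comap (algebraMap A B) y) := by
  rw [fibreRank, (TensorProduct.AlgebraTensorModule.cancelBaseChange A B y.asIdeal.ResidueField
    y.asIdeal.ResidueField M).finrank_eq]
  refine finrank_tensor_field M _ _ ?_
  rw [IsScalarTower.algebraMap_eq A B y.asIdeal.ResidueField, ← RingHom.comap_ker,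
    Ideal.ker_algebraMap_residueField]
  rfl

theorem fibreRank_congr {M N : Type u} [AddCommGroup M] [Module A M] [AddCommGroup N] [Module A N]
    (e : M ≃ₗ[A] N) (x : PrimeSpectrum A) : fibreRank M x = fibreRank N x :=
  (LinearEquiv.baseChange A x.asIdeal.ResidueField M N e).finrank_eq

theorem nhds_closedPoint [IsLocalRing A] {p : PrimeSpectrum A → Prop}
    (h : ∀ᶠ y in nhds (IsLocalRing.closedPoint A), p y) (y : PrimeSpectrum A) : p y := by
  obtain ⟨U, hU, hUo, hxU⟩ := eventually_nhds_iff.1 h
  exact hU y ((IsLocalRing.specializes_closedPoint y).mem_open hUo hxU)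

/-- The rank does not go up under generization. -/
theorem fibreRank_le_closedPoint [IsLocalRing A] (M : Type u) [AddCommGroup M] [Module A M] [Module.Finite A M]
    (y : PrimeSpectrum A) : fibreRank M y ≤ fibreRank M (IsLocalRing.closedPoint A) :=
  nhds_closedPoint (eventually_fibreRank_le M _) y

/-- Over a reduced local ring, equal ranks at the closed point and the minimal primes give freeness. -/
theorem free_of_fibreRank_eq [IsLocalRing A] [IsReduced A] (M : Type u) [AddCommGroup M] [Module A M]
    [Module.Finite A M]
    (h : ∀ y : PrimeSpectrum A, y.asIdeal ∈ minimalPrimes A →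
      fibreRank M y = fibreRank M (IsLocalRing.closedPoint A)) : Module.Free A M := by
  classical
  let c := IsLocalRing.closedPoint A
  let k := c.asIdeal.ResidueField
  haveI : c.asIdeal.IsMaximal := IsLocalRing.maximalIdeal.isMaximal A
  have hk : Function.Surjective (algebraMap A k) := Ideal.algebraMap_residueField_surjective _
  let b := Module.finBasis k (k ⊗[A] M)
  choose m hm using fun i => TensorProduct.mk_surjective A M k hk (b i)
  let F : (Fin (fibreRank M c) → A) →ₗ[A] M := Fintype.linearCombination A m
  have hFm : ∀ i, F (Pi.single i 1) = m i := fun i => by simp [F, Fintype.linearCombination_apply_single]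
  have hF : Function.Surjective F := by
    rw [← LinearMap.range_eq_top, ← Submodule.Quotient.subsingleton_iff, ← not_nontrivial_iff_subsingleton]
    intro hN
    obtain ⟨y, hy⟩ : (Module.support A (M ⧸ LinearMap.range F)).Nonempty := Module.nonempty_support_iff.2 hN
    have hc : c ∈ Module.support A (M ⧸ LinearMap.range F) :=
      Module.mem_support_mono (show y ≤ c from IsLocalRing.le_maximalIdeal y.2.ne_top) hy
    rw [Module.mem_support_iff_nontrivial_residueField_tensorProduct] at hc
    have hsurj : Function.Surjective ((LinearMap.range F).mkQ.baseChange k) :=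
      LinearMap.lTensor_surjective k (Submodule.mkQ_surjective _)
    have hzero : (LinearMap.range F).mkQ.baseChange k = 0 := by
      refine b.ext fun i => ?_
      rw [← hm i, LinearMap.zero_apply, TensorProduct.mk_apply, LinearMap.baseChange_tmul,
        show (LinearMap.range F).mkQ (m i) = 0 from (Submodule.Quotient.mk_eq_zero _).2 ⟨_, hFm i⟩,
        TensorProduct.tmul_zero]
    obtain ⟨z, w, hzw⟩ := hc
    obtain ⟨z, rfl⟩ := hsurj z
    obtain ⟨w, rfl⟩ := hsurj w
    exact hzw (by rw [hzero]; rfl)
  refine Module.Free.of_equiv (LinearEquiv.ofBijective F ⟨(injective_iff_map_eq_zero F).2 fun v hv => ?_, hF⟩)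
  funext i
  have hn : v i ∈ nilradical A := by
    rw [nilradical_eq_sInf, Submodule.mem_sInf]
    intro P (hP : Ideal.IsPrime P)
    haveI := hP
    obtain ⟨Q, hQ, hQP⟩ := Ideal.exists_minimalPrimes_le (bot_le : ⊥ ≤ P)
    haveI : Q.IsPrime := hQ.1.1
    let η : PrimeSpectrum A := ⟨Q, hQ.1.1⟩
    let L := η.asIdeal.ResidueField
    have hs : Function.Surjective (F.baseChange L) := LinearMap.lTensor_surjective L hF
    have hfr : Module.finrank L (L ⊗[A] (Fin (fibreRank M c) → A)) = Module.finrank L (L ⊗[A] M) := by
      haveI : Nontrivial A := inferInstance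
      rw [Module.finrank_baseChange, Module.finrank_fin_fun]
      exact (h η hQ).symm
    have hi : Function.Injective (F.baseChange L) := (LinearMap.injective_iff_surjective_of_finrank_eq_finrank hfr).2 hs
    have h0 : (1 : L) ⊗ₜ[A] v = 0 := hi (by rw [LinearMap.baseChange_tmul, hv, TensorProduct.tmul_zero, map_zero])
    have h1 := congrArg (fun z => TensorProduct.piScalarRight A L L (Fin (fibreRank M c)) z i) h0
    simp only [TensorProduct.piScalarRight_apply, TensorProduct.piScalarRightHom_tmul, map_zero,
      Pi.zero_apply] at h1
    refine hQP ?_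
    show v i ∈ η.asIdeal
    rw [← Ideal.algebraMap_residueField_eq_zero, Algebra.algebraMap_eq_smul_one]
    simpa using h1
  rwa [nilradical_eq_zero] at hn

/-- Over a reduced ring, a finitely presented module of locally constant rank is flat. -/
theorem flat_of_isLocallyConstant [IsReduced A] (M : Type u) [AddCommGroup M] [Module A M]
    [Module.FinitePresentation A M] (h : IsLocallyConstant (fibreRank M : PrimeSpectrum A → ℕ)) :
    Module.Flat A M := by
  refine Module.flat_of_localized_maximal M fun P hP => ?_
  let R := Localization.AtPrime P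
  haveI : IsReduced R := inferInstance
  haveI : Module.Free R (R ⊗[A] M) := by
    refine free_of_fibreRank_eq _ fun y _ => ?_
    rw [fibreRank_baseChange, fibreRank_baseChange]
    have hsp : PrimeSpectrum.comap (algebraMap A R) y ⤳
        PrimeSpectrum.comap (algebraMap A R) (IsLocalRing.closedPoint R) :=
      (IsLocalRing.specializes_closedPoint y).map (PrimeSpectrum.continuous_comap _)
    exact (h.apply_eq_of_isPreconnected isPreconnected_singleton.closure hsp.mem_closure
      (subset_closure rfl)).symm
  have hbc := IsLocalizedModule.isBaseChange P.primeCompl R (LocalizedModule.mkLinearMap P.primeCompl M)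
  haveI : Module.Flat R (LocalizedModule P.primeCompl M) := Module.Flat.of_linearEquiv hbc.equiv.symm
  exact Module.Flat.trans A R _

theorem fibreRank_eq_of_flat_of_le (M : Type u) [AddCommGroup M] [Module A M] [Module.Finite A M]
    [Module.Flat A M] {x y : PrimeSpectrum A} (h : x ≤ y) : fibreRank M x = fibreRank M y := by
  rw [fibreRank_eq_rankAtStalk, fibreRank_eq_rankAtStalk, Module.rankAtStalk_eq_of_le_of_finite_of_flat (M := M) h]

theorem isLocallyConstant_fibreRank (M : Type u) [AddCommGroup M] [Module A M] [Module.FinitePresentation A M]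
    [Module.Flat A M] : IsLocallyConstant (fibreRank M : PrimeSpectrum A → ℕ) := by
  rw [show (fibreRank M : PrimeSpectrum A → ℕ) = Module.rankAtStalk M from
    funext fun x => fibreRank_eq_rankAtStalk M x]
  exact Module.isLocallyConstant_rankAtStalk

variable (P : ChainComplex (ModuleCat.{u} A) ℤ)

/-- Flatness of the cokernel at a point is membership in the free locus. -/
theorem flat_W_localization_iff (q : ℤ) [Module.FinitePresentation A (W P q)] (y : PrimeSpectrum A) :
    Module.Flat (Localization.AtPrime y.asIdeal)
        (W (CohIII.bcCx (algebraMap A (Localization.AtPrime y.asIdeal)) P) q) ↔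
      y ∈ Module.freeLocus A (W P q) := by
  let R := Localization.AtPrime y.asIdeal
  rw [Module.Flat.equiv_iff (WbcEquiv (B := R) P q), Module.mem_freeLocus_iff_tensor y R]
  exact ⟨fun _ => Module.free_of_flat_of_isLocalRing, fun _ => inferInstance⟩

theorem eventually_fibreRank_flat (M : Type u) [AddCommGroup M] [Module A M] [Module.FinitePresentation A M]
    [Module.Flat A M] (z : PrimeSpectrum A) : ∀ᶠ x in nhds z, fibreRank M x = fibreRank M z :=
  (IsLocallyConstant.iff_eventually_eq _).1 (isLocallyConstant_fibreRank M) z

/-- The rank of `T_p` is constant near a point exactly when the ranks of the two cokernels are. -/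
theorem eventually_dRank_eq_iff [IsNoetherianRing A] (hP : ∀ i, Module.Finite A (P.X i) ∧ Module.Flat A (P.X i))
    (p q : ℤ) (hqp : q + 1 = p) (z : PrimeSpectrum A) :
    (∀ᶠ x in nhds z, CohIII.dRank P p x = CohIII.dRank P p z) ↔
      (∀ᶠ x in nhds z, fibreRank (W P p) x = fibreRank (W P p) z) ∧
        ∀ᶠ x in nhds z, fibreRank (W P q) x = fibreRank (W P q) z := by
  have := (hP q).1
  have := (hP q).2
  have := Module.finitePresentation_of_finite A (P.X q)
  have := finite_W P (hP q).1
  have := finite_W P (hP p).1
  have e := dRank_add P (fun i => (hP i).1) p q hqp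
  have h0 := eventually_fibreRank_flat (P.X q) z
  constructor
  · intro h
    have key : ∀ᶠ x in nhds z, fibreRank (W P p) x = fibreRank (W P p) z ∧
        fibreRank (W P q) x = fibreRank (W P q) z := by
      filter_upwards [h, h0, eventually_fibreRank_le (W P p) z, eventually_fibreRank_le (W P q) z]
        with x h1 h2 h3 h4
      have := e x
      have := e z
      omega
    exact ⟨key.mono fun _ h => h.1, key.mono fun _ h => h.2⟩
  · rintro ⟨h1, h2⟩
    filter_upwards [h1, h2, h0] with x a b c
    have := e x
    have := e z
    omega

theorem isLocallyConstant_of_eventually {f : PrimeSpectrum A → ℕ} (h : ∀ z, ∀ᶠ x in nhds z, f x = f z) :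
    IsLocallyConstant f :=
  (IsLocallyConstant.iff_eventually_eq f).2 h

end FlatCxLib
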