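import Groth.Agent.FlatCxLib.TFun
import Mathlib.RingTheory.Flat.Equalizer
import Mathlib.LinearAlgebra.TensorProduct.RightExactness

/-!
`T_p(M)` as the kernel of `coker d_{p+1} ⊗ M → P_{p-1} ⊗ M`, and the right exact case.
-/

set_option autoImplicit false
universe u

open CategoryTheory MonoidalCategory
open scoped TensorProduct

namespace FlatCxLib

section Algebra

variable {A : Type u} [CommRing A] {K N Q : Type u} [AddCommGroup K] [Module A K] [AddCommGroup N] [Module A N]
  [AddCommGroup Q] [Module A Q] (i : K →ₗ[A] N) (π : N →ₗ[A] Q)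
  (hi : Function.Injective i) (hex : Function.Exact i π) (hπ : Function.Surjective π)

include hi hex hπ

theorem rTensor_injective_of_flat_right [Module.Flat A Q] (M : Type u) [AddCommGroup M] [Module A M] :
    Function.Injective (i.rTensor M) :=
  (LinearMap.lTensor_inj_iff_rTensor_inj _ _).1 (LinearMap.lTensor_injective_of_exact_of_flat π hπ i hi hex M)

theorem flat_left_of_flat [Module.Flat A N] [Module.Flat A Q] : Module.Flat A K := by
  rw [Module.Flat.iff_lTensor_preserves_injective_linearMap]
  intro M M' _ _ _ _ f hf a b hab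
  refine rTensor_injective_of_flat_right i π hi hex hπ M
    (Module.Flat.lTensor_preserves_injective_linearMap (M := N) f hf ?_)
  rw [← LinearMap.comp_apply (f.lTensor N) (i.rTensor M), ← LinearMap.comp_apply (f.lTensor N) (i.rTensor M),
    LinearMap.lTensor_comp_rTensor, ← LinearMap.rTensor_comp_lTensor, LinearMap.comp_apply,
    LinearMap.comp_apply, hab]

theorem flat_middle_of_flat [Module.Flat A K] [Module.Flat A Q] : Module.Flat A N := by
  rw [Module.Flat.iff_lTensor_preserves_injective_linearMap]
  intro M M' _ _ _ _ f hf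
  rw [injective_iff_map_eq_zero]
  intro z hz
  have h1 : π.rTensor M z = 0 := by
    refine Module.Flat.lTensor_preserves_injective_linearMap (M := Q) f hf ?_
    rw [map_zero, ← LinearMap.comp_apply, LinearMap.lTensor_comp_rTensor, ← LinearMap.rTensor_comp_lTensor,
      LinearMap.comp_apply, hz, map_zero]
  obtain ⟨w, rfl⟩ := (rTensor_exact M hex hπ z).1 h1
  rw [← LinearMap.comp_apply, LinearMap.lTensor_comp_rTensor, ← LinearMap.rTensor_comp_lTensor,
    LinearMap.comp_apply] at hz
  have : w = 0 := Module.Flat.lTensor_preserves_injective_linearMap (M := K) f hf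
    ((rTensor_injective_of_flat_right i π hi hex hπ M' (hz.trans (map_zero _).symm)).trans (map_zero _).symm)
  rw [this, map_zero]

end Algebra

section Generic

variable {A : Type u} [CommRing A] {X Y Z : Type u} [AddCommGroup X] [Module A X] [AddCommGroup Y] [Module A Y]
  [AddCommGroup Z] [Module A Z] (f : X →ₗ[A] Y) (g : Y →ₗ[A] Z) (gb : (Y ⧸ LinearMap.range f) →ₗ[A] Z)
  (hgb : ∀ y, gb (Submodule.Quotient.mk y) = g y) (M : Type u) [AddCommGroup M] [Module A M]

include hgb in
theorem gb_rTensor_mkQ (x : Y ⊗[A] M) :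
    gb.rTensor M ((LinearMap.range f).mkQ.rTensor M x) = g.rTensor M x := by
  rw [← LinearMap.comp_apply, ← LinearMap.rTensor_comp,
    show gb ∘ₗ (LinearMap.range f).mkQ = g from LinearMap.ext hgb]

include hgb in
/-- Cycles mapped to the kernel on the cokernel. -/
noncomputable def genToKer : LinearMap.ker (g.rTensor M) →ₗ[A] LinearMap.ker (gb.rTensor M) :=
  (((LinearMap.range f).mkQ.rTensor M) ∘ₗ (LinearMap.ker (g.rTensor M)).subtype).codRestrict
    (LinearMap.ker (gb.rTensor M)) fun x => (gb_rTensor_mkQ f g gb hgb M x.1).trans x.2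

theorem genToKer_surjective : Function.Surjective (genToKer f g gb hgb M) := by
  rintro ⟨y, hy⟩
  obtain ⟨x, rfl⟩ := LinearMap.rTensor_surjective M (Submodule.mkQ_surjective (LinearMap.range f)) y
  exact ⟨⟨x, (gb_rTensor_mkQ f g gb hgb M x).symm.trans hy⟩, rfl⟩

theorem genToKer_ker :
    (LinearMap.range (f.rTensor M)).comap (LinearMap.ker (g.rTensor M)).subtype =
      LinearMap.ker (genToKer f g gb hgb M) := by
  ext x
  rw [Submodule.mem_comap, LinearMap.mem_ker, Subtype.ext_iff]
  exact (mkQ_eq_zero_iff f x.1).symm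

include hgb in
theorem gen_le : (LinearMap.range (f.rTensor M)).comap (LinearMap.ker (g.rTensor M)).subtype ≤
    LinearMap.ker (((LinearMap.range f).mkQ.rTensor M) ∘ₗ (LinearMap.ker (g.rTensor M)).subtype) :=
  fun x hx => (mkQ_eq_zero_iff f x.1).2 hx

/-- Cycles modulo boundaries mapped to the kernel on the cokernel. -/
noncomputable def genLift :
    (LinearMap.ker (g.rTensor M) ⧸
      (LinearMap.range (f.rTensor M)).comap (LinearMap.ker (g.rTensor M)).subtype) →ₗ[A]
      LinearMap.ker (gb.rTensor M) :=
  LinearMap.codRestrict (LinearMap.ker (gb.rTensor M))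
    (Submodule.liftQ ((LinearMap.range (f.rTensor M)).comap (LinearMap.ker (g.rTensor M)).subtype)
      (((LinearMap.range f).mkQ.rTensor M) ∘ₗ (LinearMap.ker (g.rTensor M)).subtype)
      (gen_le f g gb hgb M))
    (fun z => by
      obtain ⟨x, rfl⟩ := Submodule.mkQ_surjective _ z
      exact (gb_rTensor_mkQ f g gb hgb M x.1).trans x.2)

theorem genLift_bijective : Function.Bijective (genLift f g gb hgb M) := by
  constructor
  · rw [injective_iff_map_eq_zero]
    intro z hz
    obtain ⟨x, rfl⟩ := Submodule.mkQ_surjective _ z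
    exact (Submodule.Quotient.mk_eq_zero _).2 ((mkQ_eq_zero_iff f x.1).1 (congrArg Subtype.val hz))
  · intro y
    obtain ⟨x, rfl⟩ := genToKer_surjective f g gb hgb M y
    exact ⟨Submodule.Quotient.mk x, rfl⟩

/-- Cycles modulo boundaries as a kernel on the cokernel. -/
noncomputable def genEquiv :
    (LinearMap.ker (g.rTensor M) ⧸
      (LinearMap.range (f.rTensor M)).comap (LinearMap.ker (g.rTensor M)).subtype) ≃ₗ[A]
      LinearMap.ker (gb.rTensor M) :=
  LinearEquiv.ofBijective (genLift f g gb hgb M) (genLift_bijective f g gb hgb M)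

theorem genEquiv_mk (x : LinearMap.ker (g.rTensor M)) :
    (genEquiv f g gb hgb M (Submodule.Quotient.mk x) : (Y ⧸ LinearMap.range f) ⊗[A] M) =
      (LinearMap.range f).mkQ.rTensor M x.1 := rfl

end Generic

variable {A : Type u} [CommRing A] (P : ChainComplex (ModuleCat.{u} A) ℤ)

/-- The map `coker d_{p+1} → P_q` induced by the differential. -/
noncomputable def dbar (p q : ℤ) : W P p →ₗ[A] P.X q :=
  (LinearMap.range (P.d (p + 1) p).hom).liftQ (P.d p q).hom
    (LinearMap.range_le_ker_iff.2 (d_comp_d_hom P _ _ _))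

theorem dbar_mk (p q : ℤ) (x : P.X p) : dbar P p q (Submodule.Quotient.mk x) = (P.d p q).hom x := rfl

theorem dbar_comp_mkQ (p q : ℤ) :
    dbar P p q ∘ₗ (LinearMap.range (P.d (p + 1) p).hom).mkQ = (P.d p q).hom := rfl

theorem range_dbar (p q : ℤ) (hqp : q + 1 = p) :
    LinearMap.range (dbar P p q) = LinearMap.range (P.d (q + 1) q).hom := by
  subst hqp
  exact Submodule.range_liftQ _ _ _

variable (p q : ℤ) (hqp : q + 1 = p)

include hqp in
/-- `T_p(M) ≅ ker (W_p ⊗ M → P_q ⊗ M)`. -/
noncomputable def tEquiv (M : ModuleCat.{u} A) :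
    (CohIII.T P p M) ≃ₗ[A] LinearMap.ker ((dbar P p q).rTensor M) :=
  (homologyEquiv (CohIII.tensorObj P M) p q (by simp; omega) (p + 1) (by simp)).symm.trans
    (genEquiv (P.d (p + 1) p).hom (P.d p q).hom (dbar P p q) (dbar_mk P p q) M)

theorem tEquiv_hcls (M : ModuleCat.{u} A) (x : LinearMap.ker ((CohIII.tensorObj P M).d p q).hom) :
    (tEquiv P p q hqp M (hcls (CohIII.tensorObj P M) p q (by simp; omega) x) : W P p ⊗[A] M) =
      (LinearMap.range (P.d (p + 1) p).hom).mkQ.rTensor M x.1 := by
  have h : (homologyEquiv (CohIII.tensorObj P M) p q (by simp; omega) (p + 1) (by simp)).symm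
      (hcls (CohIII.tensorObj P M) p q (by simp; omega) x) = Submodule.Quotient.mk x :=
    (LinearEquiv.symm_apply_eq _).2 rfl
  refine (congrArg (fun z => (genEquiv (P.d (p + 1) p).hom (P.d p q).hom (dbar P p q) (dbar_mk P p q) M z
    : W P p ⊗[A] M)) h).trans ?_
  rfl

theorem tEquiv_map {M N : ModuleCat.{u} A} (g : M ⟶ N) (a : CohIII.T P p M) :
    (tEquiv P p q hqp N (((CohIII.TFun P p).map g).hom a) : W P p ⊗[A] N) =
      g.hom.lTensor (W P p) (tEquiv P p q hqp M a : W P p ⊗[A] M) := by
  obtain ⟨x, rfl⟩ := hcls_surjective (CohIII.tensorObj P M) p q (by simp; omega) a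
  have e : ((CohIII.TFun P p).map g).hom (hcls (CohIII.tensorObj P M) p q (by simp; omega) x) =
      hcls (CohIII.tensorObj P N) p q (by simp; omega) ⟨_, map_mem_ker p q (CohIII.tensorMap P g) x⟩ :=
    homologyMap_hcls p q (by simp; omega) (CohIII.tensorMap P g) x
  refine (congrArg (fun z => (tEquiv P p q hqp N z : W P p ⊗[A] N)) e).trans ?_
  refine (tEquiv_hcls P p q hqp N _).trans ?_
  refine Eq.trans ?_ (congrArg (g.hom.lTensor (W P p)) (tEquiv_hcls P p q hqp M x).symm)
  exact rTensor_lTensor (LinearMap.range (P.d (p + 1) p).hom).mkQ g.hom x.1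

/-- The kernel of `W_p → P_q`, a copy of `H_p(P)`. -/
abbrev K (p q : ℤ) : Type u := LinearMap.ker (dbar P p q)

section Epi

variable (hP : ∀ i, Module.Flat A (P.X i))

include hqp hP in
theorem flat_range_dbar (hW : Module.Flat A (W P q)) : Module.Flat A (LinearMap.range (dbar P p q)) := by
  have := hP q
  rw [range_dbar P p q hqp]
  exact flat_left_of_flat (LinearMap.range (P.d (q + 1) q).hom).subtype
    (LinearMap.range (P.d (q + 1) q).hom).mkQ Subtype.val_injective
    (LinearMap.exact_subtype_mkQ _) (Submodule.mkQ_surjective _)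

include hqp in
theorem ker_dbar_rTensor (hW : Module.Flat A (W P q)) (M : ModuleCat.{u} A) :
    LinearMap.ker ((dbar P p q).rTensor M) = LinearMap.range ((LinearMap.ker (dbar P p q)).subtype.rTensor M) := by
  let r := (dbar P p q).rangeRestrict
  let ι := (LinearMap.range (dbar P p q)).subtype
  have hι : Function.Injective (ι.rTensor M) := by
    have : Module.Flat A (P.X q ⧸ LinearMap.range (dbar P p q)) :=
      Module.Flat.of_linearEquiv (Submodule.quotEquivOfEq _ _ (range_dbar P p q hqp))
    exact rTensor_injective_of_flat_right ι (LinearMap.range (dbar P p q)).mkQ Subtype.val_injective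
      (LinearMap.exact_subtype_mkQ _) (Submodule.mkQ_surjective _) M
  have hex : Function.Exact (LinearMap.ker (dbar P p q)).subtype r := fun x =>
    ⟨fun hx => ⟨⟨x, congrArg Subtype.val hx⟩, rfl⟩, by rintro ⟨y, rfl⟩; exact Subtype.ext y.2⟩
  rw [← LinearMap.exact_iff.1 (rTensor_exact M hex (dbar P p q).surjective_rangeRestrict)]
  have hcomp : (dbar P p q).rTensor M = ι.rTensor M ∘ₗ r.rTensor M := by
    rw [← LinearMap.rTensor_comp]; rfl
  rw [hcomp, LinearMap.ker_comp, LinearMap.ker_eq_bot.2 hι, Submodule.comap_bot]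

include hqp hP in
theorem rTensor_K_injective (hW : Module.Flat A (W P q)) (M : ModuleCat.{u} A) :
    Function.Injective ((LinearMap.ker (dbar P p q)).subtype.rTensor M) := by
  have := flat_range_dbar P p q hqp hP hW
  exact rTensor_injective_of_flat_right (LinearMap.ker (dbar P p q)).subtype (dbar P p q).rangeRestrict
    Subtype.val_injective (fun x =>
      ⟨fun hx => ⟨⟨x, congrArg Subtype.val hx⟩, rfl⟩, by rintro ⟨y, rfl⟩; exact Subtype.ext y.2⟩)
    (dbar P p q).surjective_rangeRestrict M

/-- In the right exact case, `T_p(M) ≅ K_p ⊗ M`. -/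
noncomputable def tEquivTensor (hW : Module.Flat A (W P q)) (M : ModuleCat.{u} A) :
    (CohIII.T P p M) ≃ₗ[A] K P p q ⊗[A] M :=
  (tEquiv P p q hqp M).trans ((LinearEquiv.ofEq _ _ (ker_dbar_rTensor P p q hqp hW M)).trans
    (LinearEquiv.ofInjective _ (rTensor_K_injective P p q hqp hP hW M)).symm)

theorem coe_tEquivTensor (hW : Module.Flat A (W P q)) (M : ModuleCat.{u} A) (a : CohIII.T P p M) :
    (LinearMap.ker (dbar P p q)).subtype.rTensor M (tEquivTensor P p q hqp hP hW M a) =
      (tEquiv P p q hqp M a : W P p ⊗[A] M) := by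
  simp only [tEquivTensor, LinearEquiv.trans_apply]
  exact congrArg Subtype.val ((LinearEquiv.ofInjective _ (rTensor_K_injective P p q hqp hP hW M)).apply_symm_apply _)

/-- In the right exact case `T_p` is a tensor functor. -/
noncomputable def isoTensorLeft (hW : Module.Flat A (W P q)) :
    CohIII.TFun P p ≅ tensorLeft (ModuleCat.of A (K P p q)) :=
  NatIso.ofComponents (fun M => (tEquivTensor P p q hqp hP hW M).toModuleIso) fun {M N} g => by
    refine ModuleCat.hom_ext (LinearMap.ext fun a => ?_)
    apply rTensor_K_injective P p q hqp hP hW N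
    show (LinearMap.ker (dbar P p q)).subtype.rTensor N
        (tEquivTensor P p q hqp hP hW N (((CohIII.TFun P p).map g).hom a)) =
      (LinearMap.ker (dbar P p q)).subtype.rTensor N
        (g.hom.lTensor (K P p q) (tEquivTensor P p q hqp hP hW M a))
    refine (coe_tEquivTensor P p q hqp hP hW N _).trans ?_
    refine Eq.trans ?_ (rTensor_lTensor (LinearMap.ker (dbar P p q)).subtype g.hom _).symm
    refine (tEquiv_map P p q hqp g a).trans ?_
    exact congrArg (g.hom.lTensor (W P p)) (coe_tEquivTensor P p q hqp hP hW M a).symm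

/-- `T_p(A) ≅ K_p`. -/
noncomputable def tEquivSelf : (CohIII.T P p (ModuleCat.of A A)) ≃ₗ[A] K P p q :=
  (tEquiv P p q hqp (ModuleCat.of A A)).trans
    (LinearEquiv.ofSubmodules (TensorProduct.rid A (W P p)) _ _ (by
      have h : ∀ w, TensorProduct.rid A (P.X q) ((dbar P p q).rTensor A w) =
          dbar P p q (TensorProduct.rid A (W P p) w) := by
        intro w
        induction w using TensorProduct.induction_on with
        | zero => simp
        | add u v hu hv => simp only [map_add, hu, hv]
        | tmul x a => simp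
      ext y
      constructor
      · rintro ⟨w, hw, rfl⟩
        rw [SetLike.mem_coe, LinearMap.mem_ker] at hw
        rw [LinearMap.mem_ker]
        exact (h w).symm.trans (by rw [show (dbar P p q).rTensor A w = 0 from hw, map_zero])
      · intro hy
        obtain ⟨w, rfl⟩ := (TensorProduct.rid A (W P p)).surjective y
        refine ⟨w, ?_, rfl⟩
        rw [SetLike.mem_coe, LinearMap.mem_ker]
        apply (TensorProduct.rid A (P.X q)).injective
        rw [map_zero]
        exact (h w).trans hy))

include hqp in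
/-- `H_p(P) ≅ K_p`. -/
noncomputable def homologyEquivK : P.homology p ≃ₗ[A] K P p q :=
  (homologyEquiv P p q (by simp; omega) (p + 1) (by simp)).symm.trans
    ((Submodule.quotEquivOfEq _ _ (by
        ext x
        rw [LinearMap.mem_ker, Submodule.mem_comap, Subtype.ext_iff]
        exact (Submodule.Quotient.mk_eq_zero (LinearMap.range (P.d (p + 1) p).hom)).symm)).trans
      ((((LinearMap.range (P.d (p + 1) p).hom).mkQ ∘ₗ (LinearMap.ker (P.d p q).hom).subtype).codRestrict
          (LinearMap.ker (dbar P p q)) fun x => x.2).quotKerEquivOfSurjective (by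
        rintro ⟨y, hy⟩
        obtain ⟨x, rfl⟩ := Submodule.mkQ_surjective _ y
        exact ⟨⟨x, hy⟩, rfl⟩)))

include hqp hP in
theorem flat_W_iff_flat_K (hW : Module.Flat A (W P q)) : Module.Flat A (W P p) ↔ Module.Flat A (K P p q) := by
  have := flat_range_dbar P p q hqp hP hW
  have hex : Function.Exact (LinearMap.ker (dbar P p q)).subtype (dbar P p q).rangeRestrict := fun x =>
    ⟨fun hx => ⟨⟨x, congrArg Subtype.val hx⟩, rfl⟩, by rintro ⟨y, rfl⟩; exact Subtype.ext y.2⟩
  exact ⟨fun h => flat_left_of_flat _ _ Subtype.val_injective hex (dbar P p q).surjective_rangeRestrict,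
    fun h => flat_middle_of_flat _ _ Subtype.val_injective hex (dbar P p q).surjective_rangeRestrict⟩

end Epi

end FlatCxLib
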