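import Mathlib
import Groth.Agent.FlatCxLib.Locus
import Groth.Agent.FlatCxLib.Kernel

/-! Homology of a base change as a kernel on the cokernel. -/

set_option autoImplicit false
universe u

open CategoryTheory
open scoped TensorProduct

namespace FlatCxLib

variable {A : Type u} [CommRing A] (B : Type u) [CommRing B] [Algebra A B]
  (P : ChainComplex (ModuleCat.{u} A) ℤ) (p q : ℤ)

theorem extEquiv_dbar (x : W (CohIII.bcCx (algebraMap A B) P) p) :
    extEquiv (B := B) (P.X q) (dbar (CohIII.bcCx (algebraMap A B) P) p q x) =
      (dbar P p q).baseChange B (WbcEquiv (B := B) P p x) := by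
  obtain ⟨y, rfl⟩ := Submodule.mkQ_surjective _ x
  have h1 : WbcEquiv (B := B) P p (Submodule.Quotient.mk y) =
      (LinearMap.range (P.d (p + 1) p).hom).mkQ.baseChange B (extEquiv (B := B) (P.X p) y) := rfl
  rw [Submodule.mkQ_apply, h1, dbar_mk, extEquiv_d, ← LinearMap.comp_apply, ← LinearMap.baseChange_comp,
    dbar_comp_mkQ]

/-- The homology of the base change is the kernel of the base changed `coker → P_q`. -/
noncomputable def homologyBcKer (hqp : q + 1 = p) :
    (CohIII.bcCx (algebraMap A B) P).homology p ≃ₗ[B] LinearMap.ker ((dbar P p q).baseChange B) :=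
  (homologyEquivK (CohIII.bcCx (algebraMap A B) P) p q hqp).trans
    ((WbcEquiv (B := B) P p).ofSubmodules _ _
      (map_ker_equiv _ ((dbar P p q).baseChange B) (WbcEquiv (B := B) P p) (extEquiv (B := B) (P.X q))
        (extEquiv_dbar B P p q)))

/-- In the right exact case the homology of the base change is the base change of the homology. -/
noncomputable def homologyBcTensor (hqp : q + 1 = p) (hP : ∀ i, Module.Flat A (P.X i))
    (hW : Module.Flat A (W P q)) :
    (CohIII.bcCx (algebraMap A B) P).homology p ≃ₗ[B] B ⊗[A] K P p q :=
  (homologyBcKer B P p q hqp).trans <| LinearEquiv.symm <| LinearEquiv.ofBijective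
    (((LinearMap.ker (dbar P p q)).subtype.baseChange B).codRestrict (LinearMap.ker ((dbar P p q).baseChange B))
      fun z => by
        rw [LinearMap.mem_ker, ← LinearMap.comp_apply, ← LinearMap.baseChange_comp, LinearMap.comp_ker_subtype,
          LinearMap.baseChange_zero, LinearMap.zero_apply])
    (by
      have hinj := (LinearMap.lTensor_inj_iff_rTensor_inj B (LinearMap.ker (dbar P p q)).subtype).2
        (rTensor_K_injective P p q hqp hP hW (ModuleCat.of A B))
      refine ⟨fun a b h => hinj (congrArg Subtype.val h), fun y => ?_⟩
      have hy : (TensorProduct.comm A B (W P p)) y.1 ∈ LinearMap.ker ((dbar P p q).rTensor B) := by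
        rw [LinearMap.mem_ker]
        have h1 : (dbar P p q).rTensor B (TensorProduct.comm A B (W P p) y.1) =
            TensorProduct.comm A B (P.X q) ((dbar P p q).baseChange B y.1) := by
          generalize y.1 = z
          induction z using TensorProduct.induction_on with
          | zero => simp
          | tmul b m => simp
          | add a b ha hb => simp only [map_add, ha, hb]
        rw [h1, LinearMap.mem_ker.1 y.2, map_zero]
      rw [ker_dbar_rTensor P p q hqp hW (ModuleCat.of A B)] at hy
      obtain ⟨t, ht⟩ := hy
      refine ⟨(TensorProduct.comm A B (K P p q)).symm t, Subtype.ext ?_⟩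
      apply (TensorProduct.comm A B (W P p)).injective
      rw [← ht]
      show TensorProduct.comm A B (W P p) ((LinearMap.ker (dbar P p q)).subtype.baseChange B
        ((TensorProduct.comm A B (K P p q)).symm t)) = _
      generalize t = z
      induction z using TensorProduct.induction_on with
      | zero => simp
      | tmul b m => rfl
      | add a b ha hb => simp only [map_add, ha, hb])

/-- In the right exact case the rank of `T_p` is the fibre rank of its value at `A`. -/
theorem dRank_eq_fibreRank_K (hqp : q + 1 = p) (hP : ∀ i, Module.Flat A (P.X i)) (hW : Module.Flat A (W P q))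
    (x : PrimeSpectrum A) : CohIII.dRank P p x = fibreRank (K P p q) x :=
  (homologyBcTensor x.asIdeal.ResidueField P p q hqp hP hW).finrank_eq

theorem flat_W_of_isZero {i : ℤ} (h : Limits.IsZero (P.X i)) : Module.Flat A (W P i) := by
  have : Subsingleton (P.X i) := ModuleCat.subsingleton_of_isZero h
  have : Subsingleton (W P i) := (Submodule.mkQ_surjective _).subsingleton
  infer_instance

/-- Flatness of the values at `A` up to a degree is flatness of the cokernels up to that degree. -/
theorem flat_W_iff_flat_K_upTo (hP : ∀ i, Module.Flat A (P.X i)) (i₀ : ℤ) (hb : ∀ i < i₀, Limits.IsZero (P.X i))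
    (N : ℤ) : (∀ i ≤ N, Module.Flat A (W P i)) ↔ ∀ i ≤ N, Module.Flat A (K P i (i - 1)) := by
  constructor
  · intro h i hi
    exact (flat_W_iff_flat_K P i (i - 1) (by omega) hP (h _ (by omega))).1 (h i hi)
  · intro h
    suffices key : ∀ k : ℕ, ∀ i ≤ N, i < i₀ + k → Module.Flat A (W P i) from
      fun i hi => key (i - i₀ + 1).toNat i hi (by omega)
    intro k
    induction k with
    | zero => exact fun i _ hi => flat_W_of_isZero P (hb i (by simpa using hi))
    | succ k ih =>
      intro i hi hik
      exact (flat_W_iff_flat_K P i (i - 1) (by omega) hP (ih _ (by omega) (by push_cast at hik; omega))).2 (h i hi)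

/-- Exactness up to a degree is flatness of the cokernels up to that degree. -/
theorem exact_upTo_iff_flat_W (hP : ∀ i, Module.Flat A (P.X i)) (N : ℤ) :
    (∀ i ≤ N, (CohIII.TFun P i).PreservesMonomorphisms ∧ (CohIII.TFun P i).PreservesEpimorphisms) ↔
      ∀ i ≤ N, Module.Flat A (W P i) :=
  ⟨fun h i hi => (preservesMono_iff_flat P i hP).1 (h i hi).1,
    fun h i hi => ⟨(preservesMono_iff_flat P i hP).2 (h i hi),
      (preservesEpi_iff_flat P i (i - 1) (by omega) hP).2 (h _ (by omega))⟩⟩

end FlatCxLib
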