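import Mathlib
import Groth.Agent.FlatCxLib.HomologyBc

/-! Generic exactness of the functors `T_p`. -/

set_option autoImplicit false
universe u

open CategoryTheory
open scoped TensorProduct

namespace FlatCxLib

variable {A : Type u} [CommRing A] (P : ChainComplex (ModuleCat.{u} A) ℤ)

/-- Flat base change of the kernel. -/
noncomputable def kBcEquiv (B : Type u) [CommRing B] [Algebra A B] [Module.Flat A B] (p q : ℤ) (hqp : q + 1 = p) :
    K (CohIII.bcCx (algebraMap A B) P) p q ≃ₗ[B] B ⊗[A] K P p q :=
  (homologyEquivK (CohIII.bcCx (algebraMap A B) P) p q hqp).symm.trans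
    ((homologyBcKer B P p q hqp).trans (kerBaseChange B (dbar P p q)).symm)

theorem isZero_bcCx (B : Type u) [CommRing B] [Algebra A B] {i : ℤ} (h : Limits.IsZero (P.X i)) :
    Limits.IsZero ((CohIII.bcCx (algebraMap A B) P).X i) := by
  have : Subsingleton (P.X i) := ModuleCat.subsingleton_of_isZero h
  have : Subsingleton ((CohIII.bcCx (algebraMap A B) P).X i) := (extEquiv (B := B) (P.X i)).toEquiv.subsingleton
  exact ModuleCat.isZero_of_subsingleton _

/-- The generic point of a domain is in every free locus. -/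
theorem bot_mem_freeLocus [IsDomain A] (M : Type u) [AddCommGroup M] [Module A M] [Module.Finite A M] :
    (⟨(⊥ : Ideal A), Ideal.isPrime_bot⟩ : PrimeSpectrum A) ∈ Module.freeLocus A M := by
  let η : PrimeSpectrum A := ⟨(⊥ : Ideal A), Ideal.isPrime_bot⟩
  let R := Localization.AtPrime η.asIdeal
  rw [Module.mem_freeLocus_iff_tensor η R]
  refine free_of_fibreRank_eq _ fun y _ => ?_
  have hy0 : ∀ z : PrimeSpectrum R, PrimeSpectrum.comap (algebraMap A R) z = η := fun z =>
    PrimeSpectrum.ext (le_bot_iff.1 (by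
      have h1 := Ideal.comap_mono (f := algebraMap A R) (IsLocalRing.le_maximalIdeal z.2.ne_top)
      rwa [show Ideal.comap (algebraMap A R) (IsLocalRing.maximalIdeal _) = η.asIdeal from
        IsLocalization.AtPrime.comap_maximalIdeal R η.asIdeal] at h1))
  rw [fibreRank_baseChange, fibreRank_baseChange, hy0, hy0]

/-- Generic exactness up to a degree. -/
theorem exists_away_flat_W [IsDomain A] (hP : ∀ i, Module.Flat A (P.X i)) (i₀ : ℤ)
    (hb : ∀ i < i₀, Limits.IsZero (P.X i))
    (hfp : ∀ n : ℤ, Module.FinitePresentation A (K P n (n - 1))) (N : ℤ) :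
    ∃ f : A, f ≠ 0 ∧ ∀ i ≤ N, Module.Flat (Localization.Away f) (W (CohIII.bcCx (algebraMap A (Localization.Away f)) P) i) := by
  classical
  let η : PrimeSpectrum A := ⟨(⊥ : Ideal A), Ideal.isPrime_bot⟩
  let s := Finset.Icc i₀ N
  let U : Set (PrimeSpectrum A) := ⋂ i ∈ s, Module.freeLocus A (K P i (i - 1))
  have hU : IsOpen U := isOpen_biInter_finset fun i _ => have := hfp i; Module.isOpen_freeLocus
  have hηU : η ∈ U := Set.mem_iInter₂.2 fun i _ => have := hfp i; bot_mem_freeLocus _
  obtain ⟨_, ⟨f, rfl⟩, hηf, hfU⟩ :=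
    PrimeSpectrum.isTopologicalBasis_basic_opens.exists_subset_of_mem_open hηU hU
  refine ⟨f, fun h => hηf (by rw [h]; exact zero_mem _), ?_⟩
  let R := Localization.Away f
  haveI : Module.Flat A R := IsLocalization.flat R (Submonoid.powers f)
  let Q := CohIII.bcCx (algebraMap A R) P
  refine (flat_W_iff_flat_K_upTo Q (flat_bcCx P hP) i₀ (fun i hi => isZero_bcCx P R (hb i hi)) N).2 fun i hi => ?_
  by_cases hi0 : i < i₀
  · have : Subsingleton (Q.X i) := ModuleCat.subsingleton_of_isZero (isZero_bcCx P R (hb i hi0))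
    have : Subsingleton (W Q i) := (Submodule.mkQ_surjective _).subsingleton
    infer_instance
  · have := hfp i
    have hmem : i ∈ s := Finset.mem_Icc.2 ⟨not_lt.1 hi0, hi⟩
    have := (Module.basicOpen_subset_freeLocus_iff (M := K P i (i - 1)) (f := f)).1
      (hfU.trans (Set.biInter_subset_of_mem hmem))
    have hbc := IsLocalizedModule.isBaseChange (Submonoid.powers f) R
      (LocalizedModule.mkLinearMap (Submonoid.powers f) (K P i (i - 1)))
    haveI : Module.Flat R (R ⊗[A] K P i (i - 1)) := Module.Flat.of_linearEquiv hbc.equiv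
    exact Module.Flat.of_linearEquiv (kBcEquiv P R i (i - 1) (by omega))

end FlatCxLib
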