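import Mathlib

/-!
A localisation of a module as a filtered colimit, and linear functors preserving such colimits.
-/

set_option autoImplicit false
set_option linter.style.haveILetI false
universe u

open CategoryTheory CategoryTheory.Limits

noncomputable section

namespace FlatCxLib

variable {A : Type u} [CommRing A]

/-- The index category of a localisation at `S`. -/
structure LocIdx (S : Submonoid A) : Type u where
  /-- the denominator -/
  val : S

namespace LocIdx

variable {S : Submonoid A}

instance : SmallCategory (LocIdx S) where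
  Hom s t := {r : S // r * s.val = t.val}
  id s := ⟨1, one_mul _⟩
  comp f g := ⟨g.1 * f.1, by rw [mul_assoc, f.2, g.2]⟩
  id_comp f := Subtype.ext (mul_one _)
  comp_id f := Subtype.ext (one_mul _)
  assoc f g h := Subtype.ext (mul_assoc _ _ _).symm

instance : IsFiltered (LocIdx S) :=
  haveI : Nonempty (LocIdx S) := ⟨⟨1⟩⟩
  haveI : IsFilteredOrEmpty (LocIdx S) :=
    { cocone_objs := fun s t => ⟨⟨s.val * t.val⟩, ⟨t.val, mul_comm _ _⟩, ⟨s.val, rfl⟩, trivial⟩
      cocone_maps := fun s t f g => ⟨⟨s.val * t.val⟩, ⟨s.val, rfl⟩, Subtype.ext (by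
        show s.val * f.1 = s.val * g.1
        rw [mul_comm, f.2, mul_comm, g.2])⟩ }
  IsFiltered.mk

variable (S) in
/-- The diagram of a localisation. -/
def diagram (M : ModuleCat.{u} A) : LocIdx S ⥤ ModuleCat.{u} A where
  obj _ := M
  map f := (f.1 : A) • 𝟙 M
  map_id s := by
    show ((1 : S) : A) • 𝟙 M = 𝟙 M
    rw [OneMemClass.coe_one, one_smul]
  map_comp f g := ModuleCat.hom_ext (LinearMap.ext fun x => by
    show ((g.1 * f.1 : S) : A) • x = (g.1 : A) • (f.1 : A) • x
    rw [Submonoid.coe_mul, mul_smul])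

/-- The cocone of a localisation. -/
def cocone {M N : ModuleCat.{u} A} (g : M ⟶ N) [IsLocalizedModule S g.hom] : Cocone (diagram S M) where
  pt := N
  ι :=
    { app := fun s => ModuleCat.ofHom
        { toFun := fun (x : M) => IsLocalizedModule.mk' g.hom x s.val
          map_add' := fun x y => IsLocalizedModule.mk'_add _ _ _ _
          map_smul' := fun a x => IsLocalizedModule.mk'_smul _ _ _ _ }
      naturality := fun ⟨s⟩ ⟨t⟩ ⟨r, hr⟩ => by
        refine ModuleCat.hom_ext (LinearMap.ext fun (x : M) => ?_)
        have key : ∀ t', r * s = t' → IsLocalizedModule.mk' g.hom ((r : A) • x) t' =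
            IsLocalizedModule.mk' g.hom x s := by
          rintro _ rfl
          exact IsLocalizedModule.mk'_cancel_left (f := g.hom) x r s
        exact key t hr }

/-- The cocone of a localisation is a colimit. -/
def isColimit {M N : ModuleCat.{u} A} (g : M ⟶ N) [IsLocalizedModule S g.hom] :
    IsColimit (cocone (S := S) g) := by
  refine isColimitOfReflects (CategoryTheory.forget (ModuleCat.{u} A)) ?_
  refine Types.FilteredColimit.isColimitOf _ _ (fun y => ?_) fun i j xi xj h => ?_
  · obtain ⟨⟨x, s⟩, hx⟩ := IsLocalizedModule.mk'_surjective S g.hom y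
    exact ⟨⟨s⟩, x, hx.symm⟩
  · obtain ⟨c, hc⟩ := (IsLocalizedModule.mk'_eq_mk'_iff g.hom (xi : M) (xj : M)
      i.val j.val).1 h
    refine ⟨⟨c * (i.val * j.val)⟩, ⟨c * j.val, by rw [mul_assoc, mul_comm j.val]⟩,
      ⟨c * i.val, by rw [mul_assoc]⟩, ?_⟩
    show ((c * j.val : S) : A) • (xi : M) = ((c * i.val : S) : A) • (xj : M)
    simp only [Submonoid.smul_def] at hc
    rw [Submonoid.coe_mul, Submonoid.coe_mul, mul_smul, mul_smul]
    first | exact hc | exact hc.symm

end LocIdx

/-- A linear functor preserving filtered colimits preserves localisations. -/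
theorem isLocalizedModule_map (T : ModuleCat.{u} A ⥤ ModuleCat.{u} A) [T.Additive] [T.Linear A]
    (hT : ∀ (J : Type u) [SmallCategory J] [IsFiltered J], PreservesColimitsOfShape J T)
    {S : Submonoid A} {M N : ModuleCat.{u} A} (g : M ⟶ N) [IsLocalizedModule S g.hom] :
    IsLocalizedModule S (T.map g).hom := by
  haveI := hT (LocIdx S)
  have hc := isColimitOfPreserves (CategoryTheory.forget (ModuleCat.{u} A))
    (isColimitOfPreserves T (LocIdx.isColimit (S := S) g))
  have hmap : ∀ (P : ModuleCat.{u} A) (a : A) (x : T.obj P), (T.map (a • 𝟙 P)).hom x = a • x :=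
    fun P a x => by
      rw [CategoryTheory.Functor.map_smul, CategoryTheory.Functor.map_id]
      rfl
  let ι : LocIdx S → (M ⟶ N) := fun s => (LocIdx.cocone (S := S) g).ι.app s
  have hι : ∀ s : LocIdx S, (s.val : A) • ι s = g := fun s =>
    ModuleCat.hom_ext (LinearMap.ext fun x => by
      show (s.val : A) • IsLocalizedModule.mk' g.hom (x : M) s.val = g.hom x
      rw [← Submonoid.smul_def]
      exact IsLocalizedModule.mk'_cancel' _ _ _)
  have h1 : (LocIdx.cocone (S := S) g).ι.app ⟨1⟩ = g := by
    conv_rhs => rw [← hι ⟨1⟩]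
    exact (one_smul A _).symm
  refine
    { map_units := fun s => ?_
      surj := fun y => ?_
      exists_of_eq := fun {x y} hxy => ?_ }
  · rw [Module.End.isUnit_iff]
    have hb := (Module.End.isUnit_iff _).1 (IsLocalizedModule.map_units g.hom s)
    haveI : IsIso ((s : A) • 𝟙 N) := (ConcreteCategory.isIso_iff_bijective _).2 hb
    have h2 := (ConcreteCategory.isIso_iff_bijective (T.map ((s : A) • 𝟙 N))).1 inferInstance
    convert h2 using 1
    exact funext fun x => (hmap N (s : A) x).symm
  · obtain ⟨s, x, rfl⟩ := Types.jointly_surjective_of_isColimit hc y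
    refine ⟨(x, s.val), ?_⟩
    show (s.val : A) • (T.map (ι s)).hom x = (T.map g).hom x
    conv_rhs => rw [← hι s, CategoryTheory.Functor.map_smul]
    rfl
  · obtain ⟨k, f, hk⟩ := (Types.FilteredColimit.isColimit_eq_iff' hc (i := ⟨1⟩) x y).1 (by
      show (T.map ((LocIdx.cocone (S := S) g).ι.app ⟨1⟩)).hom x =
        (T.map ((LocIdx.cocone (S := S) g).ι.app ⟨1⟩)).hom y
      rw [h1]
      exact hxy)
    refine ⟨f.1, ?_⟩
    show (f.1 : A) • x = (f.1 : A) • y
    rw [← hmap M (f.1 : A) x, ← hmap M (f.1 : A) y]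
    exact hk

end FlatCxLib

end
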