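import Mathlib.LinearAlgebra.TensorProduct.RightExactness
import Mathlib.RingTheory.Flat.Basic
import Mathlib.LinearAlgebra.TensorProduct.Tower

/-! Homology of three linear maps and its compatibility with base change. -/

set_option autoImplicit false
universe u

open scoped TensorProduct

namespace FlatCxLib

variable {A : Type u} [CommRing A] {X Y Z : Type u}
  [AddCommGroup X] [Module A X] [AddCommGroup Y] [Module A Y] [AddCommGroup Z] [Module A Z]

/-- `ker g` modulo `range f`. -/
abbrev Hm (f : X →ₗ[A] Y) (g : Y →ₗ[A] Z) : Type u :=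
  LinearMap.ker g ⧸ (LinearMap.range f).comap (LinearMap.ker g).subtype

variable {X' Y' Z' : Type u} [AddCommGroup X'] [Module A X'] [AddCommGroup Y'] [Module A Y']
  [AddCommGroup Z'] [Module A Z']

theorem map_range_equiv (f : X →ₗ[A] Y) (f' : X' →ₗ[A] Y') (eX : X ≃ₗ[A] X') (eY : Y ≃ₗ[A] Y')
    (h : ∀ x, eY (f x) = f' (eX x)) :
    (LinearMap.range f).map eY.toLinearMap = LinearMap.range f' := by
  ext y
  constructor
  · rintro ⟨_, ⟨z, rfl⟩, rfl⟩
    exact ⟨eX z, (h z).symm⟩
  · rintro ⟨z, rfl⟩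
    exact ⟨_, ⟨eX.symm z, rfl⟩, (h _).trans (congrArg f' (eX.apply_symm_apply z))⟩

theorem map_ker_equiv (g : Y →ₗ[A] Z) (g' : Y' →ₗ[A] Z') (eY : Y ≃ₗ[A] Y') (eZ : Z ≃ₗ[A] Z')
    (h : ∀ y, eZ (g y) = g' (eY y)) :
    (LinearMap.ker g).map eY.toLinearMap = LinearMap.ker g' := by
  ext y
  constructor
  · rintro ⟨z, hz, rfl⟩
    rw [SetLike.mem_coe, LinearMap.mem_ker] at hz
    rw [LinearMap.mem_ker]
    exact (h z).symm.trans (by rw [hz, map_zero])
  · intro hy
    refine ⟨eY.symm y, ?_, eY.apply_symm_apply y⟩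
    rw [SetLike.mem_coe, LinearMap.mem_ker]
    apply eZ.injective
    rw [h, eY.apply_symm_apply, map_zero]
    exact hy

/-- `Hm` transports along isomorphisms of three-term sequences. -/
noncomputable def hmCongr {f : X →ₗ[A] Y} {g : Y →ₗ[A] Z} {f' : X' →ₗ[A] Y'} {g' : Y' →ₗ[A] Z'}
    (eX : X ≃ₗ[A] X') (eY : Y ≃ₗ[A] Y') (eZ : Z ≃ₗ[A] Z')
    (hf : ∀ x, eY (f x) = f' (eX x)) (hg : ∀ y, eZ (g y) = g' (eY y)) :
    Hm f g ≃ₗ[A] Hm f' g' :=
  Submodule.Quotient.equiv _ _ (eY.ofSubmodules _ _ (map_ker_equiv g g' eY eZ hg)) (by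
    ext y
    constructor
    · rintro ⟨z, ⟨w, hw⟩, rfl⟩
      exact ⟨eX w, (hf w).symm.trans (congrArg eY hw)⟩
    · rintro ⟨w, hw⟩
      refine ⟨(eY.ofSubmodules _ _ (map_ker_equiv g g' eY eZ hg)).symm y, ⟨eX.symm w, ?_⟩,
        LinearEquiv.apply_symm_apply _ y⟩
      apply eY.injective
      refine (hf _).trans ?_
      rw [eX.apply_symm_apply, hw]
      exact (eY.apply_symm_apply y.1).symm)

variable (B : Type u) [CommRing B] [Algebra A B]

/-- Base change commutes with cokernels. -/
noncomputable def cokerBaseChange (f : X →ₗ[A] Y) :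
    ((B ⊗[A] Y) ⧸ LinearMap.range (f.baseChange B)) ≃ₗ[B] B ⊗[A] (Y ⧸ LinearMap.range f) :=
  (Submodule.quotEquivOfEq _ _ (by
      ext x
      exact (lTensor_exact B (LinearMap.exact_map_mkQ_range f) (Submodule.mkQ_surjective _) x).symm)).trans
    (((LinearMap.range f).mkQ.baseChange B).quotKerEquivOfSurjective
      (LinearMap.lTensor_surjective B (Submodule.mkQ_surjective (LinearMap.range f))))

/-- Double base change of a linear map. -/
theorem cancelBaseChange_baseChange (C : Type u) [CommRing C] [Algebra A C] [Algebra B C]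
    [IsScalarTower A B C] (f : X →ₗ[A] Y) (z : C ⊗[B] (B ⊗[A] X)) :
    TensorProduct.AlgebraTensorModule.cancelBaseChange A B C C Y ((f.baseChange B).baseChange C z) =
      f.baseChange C (TensorProduct.AlgebraTensorModule.cancelBaseChange A B C C X z) := by
  induction z using TensorProduct.induction_on with
  | zero => simp
  | add a b ha hb => simp only [map_add, ha, hb]
  | tmul c w =>
    induction w using TensorProduct.induction_on with
    | zero => simp
    | add a b ha hb => simp only [TensorProduct.tmul_add, map_add, ha, hb]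
    | tmul b x => simp

variable [Module.Flat A B]

/-- Base change of a kernel along a flat map. -/
noncomputable def kerBaseChange (g : Y →ₗ[A] Z) :
    B ⊗[A] LinearMap.ker g ≃ₗ[B] LinearMap.ker (g.baseChange B) :=
  LinearEquiv.ofBijective
    (((LinearMap.ker g).subtype.baseChange B).codRestrict (LinearMap.ker (g.baseChange B)) fun x =>
      (Module.Flat.lTensor_exact B (LinearMap.exact_subtype_ker_map g)).apply_apply_eq_zero x)
    ⟨fun a b h => Module.Flat.lTensor_preserves_injective_linearMap (M := B) (LinearMap.ker g).subtype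
        Subtype.val_injective (congrArg Subtype.val h),
      fun y => by
        obtain ⟨x, hx⟩ := ((Module.Flat.lTensor_exact B (LinearMap.exact_subtype_ker_map g)) y.1).1 y.2
        exact ⟨x, Subtype.ext hx⟩⟩

theorem range_baseChange_map_ker (f : X →ₗ[A] Y) (g : Y →ₗ[A] Z) (hfg : ∀ x, g (f x) = 0) :
    (LinearMap.range ((f.codRestrict (LinearMap.ker g) hfg).baseChange B)).map
        (kerBaseChange B g).toLinearMap =
      (LinearMap.range (f.baseChange B)).comap (LinearMap.ker (g.baseChange B)).subtype := by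
  ext y
  have key : ∀ w, ((LinearMap.ker g).subtype.baseChange B)
      ((f.codRestrict (LinearMap.ker g) hfg).baseChange B w) = f.baseChange B w := by
    intro w
    induction w using TensorProduct.induction_on with
    | zero => simp
    | tmul b x => simp
    | add a b ha hb => simp only [map_add, ha, hb]
  constructor
  · rintro ⟨_, ⟨w, rfl⟩, rfl⟩
    exact ⟨w, (key w).symm⟩
  · rintro ⟨w, hw⟩
    exact ⟨_, ⟨w, rfl⟩, Subtype.ext ((key w).trans hw)⟩

theorem range_codRestrict_ker (f : X →ₗ[A] Y) (g : Y →ₗ[A] Z) (hfg : ∀ x, g (f x) = 0) :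
    LinearMap.range (f.codRestrict (LinearMap.ker g) hfg) =
      (LinearMap.range f).comap (LinearMap.ker g).subtype := by
  ext y
  constructor
  · rintro ⟨x, rfl⟩; exact ⟨x, rfl⟩
  · rintro ⟨x, hx⟩; exact ⟨x, Subtype.ext hx⟩

/-- `Hm` commutes with flat base change. -/
noncomputable def hmBaseChange (f : X →ₗ[A] Y) (g : Y →ₗ[A] Z) (hfg : g ∘ₗ f = 0) :
    Hm (f.baseChange B) (g.baseChange B) ≃ₗ[B] B ⊗[A] Hm f g :=
  have h : ∀ x, g (f x) = 0 := fun x => LinearMap.congr_fun hfg x
  let f' : X →ₗ[A] LinearMap.ker g := f.codRestrict (LinearMap.ker g) h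
  let e1 : ((B ⊗[A] LinearMap.ker g) ⧸ LinearMap.range (f'.baseChange B)) ≃ₗ[B]
      Hm (f.baseChange B) (g.baseChange B) :=
    Submodule.Quotient.equiv _ _ (kerBaseChange B g) (range_baseChange_map_ker B f g h)
  let q : (LinearMap.ker g ⧸ LinearMap.range f') ≃ₗ[A] Hm f g :=
    Submodule.quotEquivOfEq _ _ (range_codRestrict_ker f g h)
  let e2 : (B ⊗[A] (LinearMap.ker g ⧸ LinearMap.range f')) ≃ₗ[B] B ⊗[A] Hm f g :=
    LinearEquiv.baseChange A B _ _ q
  (e1.symm.trans (cokerBaseChange B f')).trans e2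

end FlatCxLib
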